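import Mathlib

/-!
# Packed 7×7 matrices over `ZMod 11`

A matrix is one `Nat`: 12 bits per entry, 84 bits per row.  `mulP` multiplies two of them using only
`Nat` operations which the kernel evaluates by GMP; about 1 ms per product.  `dec` is the decoding
to `Matrix (Fin 7) (Fin 7) (ZMod 11)`, and `dec_mulP` says that `mulP` is the matrix product on
reduced arguments.
-/

set_option autoImplicit false

namespace Cfsg.Agent.Lib.Sporadic.J1.PackedMat

/-- digit 0 of a row -/
def dg0 (s : Nat) : Nat := Nat.mod (Nat.div s 1) 4096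
/-- digit 1 of a row -/
def dg1 (s : Nat) : Nat := Nat.mod (Nat.div s 4096) 4096
/-- digit 2 of a row -/
def dg2 (s : Nat) : Nat := Nat.mod (Nat.div s 16777216) 4096
/-- digit 3 of a row -/
def dg3 (s : Nat) : Nat := Nat.mod (Nat.div s 68719476736) 4096
/-- digit 4 of a row -/
def dg4 (s : Nat) : Nat := Nat.mod (Nat.div s 281474976710656) 4096
/-- digit 5 of a row -/
def dg5 (s : Nat) : Nat := Nat.mod (Nat.div s 1152921504606846976) 4096
/-- digit 6 of a row -/
def dg6 (s : Nat) : Nat := Nat.mod (Nat.div s 4722366482869645213696) 4096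
/-- row 0 of a packed matrix -/
def row0 (s : Nat) : Nat := Nat.mod (Nat.div s 1) 19342813113834066795298816
/-- row 1 of a packed matrix -/
def row1 (s : Nat) : Nat := Nat.mod (Nat.div s 19342813113834066795298816) 19342813113834066795298816
/-- row 2 of a packed matrix -/
def row2 (s : Nat) : Nat := Nat.mod (Nat.div s 374144419156711147060143317175368453031918731001856) 19342813113834066795298816
/-- row 3 of a packed matrix -/
def row3 (s : Nat) : Nat := Nat.mod (Nat.div s 7237005577332262213973186563042994240829374041602535252466099000494570602496) 19342813113834066795298816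
/-- row 4 of a packed matrix -/
def row4 (s : Nat) : Nat := Nat.mod (Nat.div s 139984046386112763159840142535527767382602843577165595931249318810236991948760059086304843329475444736) 19342813113834066795298816
/-- row 5 of a packed matrix -/
def row5 (s : Nat) : Nat := Nat.mod (Nat.div s 2707685248164858261307045101702230179137145581421695874189921465443966120903931272499975005961073806735733604454495675614232576) 19342813113834066795298816
/-- row 6 of a packed matrix -/
def row6 (s : Nat) : Nat := Nat.mod (Nat.div s 52374249726338269920211035149241586435466272736689036631732661889538140742474792878132321477214466514414186946040961136147476104734166288853256441430016) 19342813113834066795298816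

/-- `a` times the matrix with rows `r0 … r6` (unreduced). -/
def rowsum (a r0 r1 r2 r3 r4 r5 r6 : Nat) : Nat :=
  Nat.add (Nat.mul (dg0 a) r0) (Nat.add (Nat.mul (dg1 a) r1) (Nat.add (Nat.mul (dg2 a) r2)
    (Nat.add (Nat.mul (dg3 a) r3) (Nat.add (Nat.mul (dg4 a) r4) (Nat.add (Nat.mul (dg5 a) r5)
      (Nat.mul (dg6 a) r6))))))

/-- reduce each digit modulo 11 -/
def norm (s : Nat) : Nat := Nat.add (Nat.mod (dg0 s) 11) (Nat.add (Nat.mul (Nat.mod (dg1 s) 11) 4096) (Nat.add (Nat.mul (Nat.mod (dg2 s) 11) 16777216) (Nat.add (Nat.mul (Nat.mod (dg3 s) 11) 68719476736) (Nat.add (Nat.mul (Nat.mod (dg4 s) 11) 281474976710656) (Nat.add (Nat.mul (Nat.mod (dg5 s) 11) 1152921504606846976) (Nat.mul (Nat.mod (dg6 s) 11) 4722366482869645213696))))))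
/-- product given the rows of the right factor -/
def mulRows (a r0 r1 r2 r3 r4 r5 r6 : Nat) : Nat := Nat.add (norm (rowsum (row0 a) r0 r1 r2 r3 r4 r5 r6)) (Nat.add (Nat.mul (norm (rowsum (row1 a) r0 r1 r2 r3 r4 r5 r6)) 19342813113834066795298816) (Nat.add (Nat.mul (norm (rowsum (row2 a) r0 r1 r2 r3 r4 r5 r6)) 374144419156711147060143317175368453031918731001856) (Nat.add (Nat.mul (norm (rowsum (row3 a) r0 r1 r2 r3 r4 r5 r6)) 7237005577332262213973186563042994240829374041602535252466099000494570602496) (Nat.add (Nat.mul (norm (rowsum (row4 a) r0 r1 r2 r3 r4 r5 r6)) 139984046386112763159840142535527767382602843577165595931249318810236991948760059086304843329475444736) (Nat.add (Nat.mul (norm (rowsum (row5 a) r0 r1 r2 r3 r4 r5 r6)) 2707685248164858261307045101702230179137145581421695874189921465443966120903931272499975005961073806735733604454495675614232576) (Nat.mul (norm (rowsum (row6 a) r0 r1 r2 r3 r4 r5 r6)) 52374249726338269920211035149241586435466272736689036631732661889538140742474792878132321477214466514414186946040961136147476104734166288853256441430016))))))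
/-- The product of packed matrices. -/
def mulP (a b : Nat) : Nat := mulRows a (row0 b) (row1 b) (row2 b) (row3 b) (row4 b) (row5 b) (row6 b)

/-- The identity matrix. -/
def oneP : Nat := 247330401473104534060502521022768938585447341332593437143895624404842217728409117361276198957909906254330057875052546833760938570069636535207230795123697835353496276399292417

/-- digit of a row -/
def dg (s : Nat) : Fin 7 → Nat
  | 0 => dg0 s | 1 => dg1 s | 2 => dg2 s | 3 => dg3 s | 4 => dg4 s | 5 => dg5 s | 6 => dg6 s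

/-- row -/
def row (s : Nat) : Fin 7 → Nat
  | 0 => row0 s | 1 => row1 s | 2 => row2 s | 3 => row3 s | 4 => row4 s | 5 => row5 s | 6 => row6 s

/-- entry -/
def ent (a : Nat) (i j : Fin 7) : Nat := dg (row a i) j

/-- decoding -/
def dec (a : Nat) : Matrix (Fin 7) (Fin 7) (ZMod 11) := fun i j => ((ent a i j : Nat) : ZMod 11)

/-- packing of a row -/
def pk (c : Fin 7 → Nat) : Nat :=
  c 0 + (c 1 * 4096 + (c 2 * 16777216 + (c 3 * 68719476736 + (c 4 * 281474976710656 +
    (c 5 * 1152921504606846976 + c 6 * 4722366482869645213696)))))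

theorem dg0_def (s : Nat) : dg0 s = s / 1 % 4096 := rfl
theorem dg1_def (s : Nat) : dg1 s = s / 4096 % 4096 := rfl
theorem dg2_def (s : Nat) : dg2 s = s / 16777216 % 4096 := rfl
theorem dg3_def (s : Nat) : dg3 s = s / 68719476736 % 4096 := rfl
theorem dg4_def (s : Nat) : dg4 s = s / 281474976710656 % 4096 := rfl
theorem dg5_def (s : Nat) : dg5 s = s / 1152921504606846976 % 4096 := rfl
theorem dg6_def (s : Nat) : dg6 s = s / 4722366482869645213696 % 4096 := rfl
theorem row0_def (s : Nat) : row0 s = s / 1 % 19342813113834066795298816 := rfl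
theorem row1_def (s : Nat) : row1 s = s / 19342813113834066795298816 % 19342813113834066795298816 := rfl
theorem row2_def (s : Nat) : row2 s = s / 374144419156711147060143317175368453031918731001856 % 19342813113834066795298816 := rfl
theorem row3_def (s : Nat) : row3 s = s / 7237005577332262213973186563042994240829374041602535252466099000494570602496 % 19342813113834066795298816 := rfl
theorem row4_def (s : Nat) : row4 s = s / 139984046386112763159840142535527767382602843577165595931249318810236991948760059086304843329475444736 % 19342813113834066795298816 := rfl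
theorem row5_def (s : Nat) : row5 s = s / 2707685248164858261307045101702230179137145581421695874189921465443966120903931272499975005961073806735733604454495675614232576 % 19342813113834066795298816 := rfl
theorem row6_def (s : Nat) : row6 s = s / 52374249726338269920211035149241586435466272736689036631732661889538140742474792878132321477214466514414186946040961136147476104734166288853256441430016 % 19342813113834066795298816 := rfl

theorem dg_pk {c : Fin 7 → Nat} (hc : ∀ j, c j < 4096) (j : Fin 7) : dg (pk c) j = c j := by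
  have h0 := hc 0
  have h1 := hc 1
  have h2 := hc 2
  have h3 := hc 3
  have h4 := hc 4
  have h5 := hc 5
  have h6 := hc 6
  fin_cases j <;>
    simp only [dg, dg0_def, dg1_def, dg2_def, dg3_def, dg4_def, dg5_def, dg6_def, pk, Fin.zero_eta,
      Fin.mk_one, Fin.reduceFinMk] <;> omega

theorem pk_dg {s : Nat} (hs : s < 4722366482869645213696 * 4096) : pk (dg s) = s := by
  simp only [pk, dg, dg0_def, dg1_def, dg2_def, dg3_def, dg4_def, dg5_def, dg6_def]
  omega

theorem pk_lt {c : Fin 7 → Nat} (hc : ∀ j, c j < 4096) : pk c < 19342813113834066795298816 := by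
  have h0 := hc 0
  have h1 := hc 1
  have h2 := hc 2
  have h3 := hc 3
  have h4 := hc 4
  have h5 := hc 5
  have h6 := hc 6
  simp only [pk]
  omega

/-- packing of a matrix from its rows -/
def pk2 (r : Fin 7 → Nat) : Nat :=
  r 0 + (r 1 * 19342813113834066795298816 + (r 2 * 374144419156711147060143317175368453031918731001856 + (r 3 * 7237005577332262213973186563042994240829374041602535252466099000494570602496 + (r 4 * 139984046386112763159840142535527767382602843577165595931249318810236991948760059086304843329475444736 + (r 5 * 2707685248164858261307045101702230179137145581421695874189921465443966120903931272499975005961073806735733604454495675614232576 + (r 6 * 52374249726338269920211035149241586435466272736689036631732661889538140742474792878132321477214466514414186946040961136147476104734166288853256441430016))))))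

theorem row_pk2 {c : Fin 7 → Nat} (hc : ∀ j, c j < 19342813113834066795298816) (j : Fin 7) :
    row (pk2 c) j = c j := by
  have h0 := hc 0
  have h1 := hc 1
  have h2 := hc 2
  have h3 := hc 3
  have h4 := hc 4
  have h5 := hc 5
  have h6 := hc 6
  fin_cases j <;>
    simp only [row, row0_def, row1_def, row2_def, row3_def, row4_def, row5_def, row6_def, pk2,
      Fin.zero_eta, Fin.mk_one, Fin.reduceFinMk] <;> omega

/-- Upper bound of packed matrices. -/
def bound : Nat := 1013065324433836171511818326096474890383898005918563696288002277756507034036354527929615978746851512277392062160962106733983191180520452956027069051297354415786421338721071661056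

theorem pk2_row {s : Nat} (hs : s < bound) : pk2 (row s) = s := by
  simp only [pk2, row, row0_def, row1_def, row2_def, row3_def, row4_def, row5_def, row6_def]
  simp only [bound] at hs
  omega

theorem pk2_lt {c : Fin 7 → Nat} (hc : ∀ j, c j < 19342813113834066795298816) : pk2 c < bound := by
  have h0 := hc 0
  have h1 := hc 1
  have h2 := hc 2
  have h3 := hc 3
  have h4 := hc 4
  have h5 := hc 5
  have h6 := hc 6
  simp only [pk2, bound]
  omega

theorem row_lt (s : Nat) (i : Fin 7) : row s i < 19342813113834066795298816 := by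
  fin_cases i <;>
    simp only [row, row0_def, row1_def, row2_def, row3_def, row4_def, row5_def, row6_def,
      Fin.zero_eta, Fin.mk_one, Fin.reduceFinMk] <;> omega

theorem dg_lt (s : Nat) (i : Fin 7) : dg s i < 4096 := by
  fin_cases i <;>
    simp only [dg, dg0_def, dg1_def, dg2_def, dg3_def, dg4_def, dg5_def, dg6_def,
      Fin.zero_eta, Fin.mk_one, Fin.reduceFinMk] <;> omega

theorem norm_eq (s : Nat) : norm s = pk fun j => dg s j % 11 := rfl

theorem rowsum_eq (a r0 r1 r2 r3 r4 r5 r6 : Nat) :
    rowsum a r0 r1 r2 r3 r4 r5 r6 = dg a 0 * r0 + (dg a 1 * r1 + (dg a 2 * r2 + (dg a 3 * r3 +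
      (dg a 4 * r4 + (dg a 5 * r5 + dg a 6 * r6))))) := rfl

/-- Matrix entries are reduced. -/
def Reduced (a : Nat) : Prop := a < bound ∧ ∀ i j, ent a i j < 11

/-- `mulP` as a packing of rows. -/
theorem mulP_eq (a b : Nat) : mulP a b = pk2 fun i => norm (rowsum (row a i) (row b 0) (row b 1)
    (row b 2) (row b 3) (row b 4) (row b 5) (row b 6)) := rfl

theorem norm_lt (s : Nat) : norm s < 19342813113834066795298816 := by
  rw [norm_eq]
  apply pk_lt
  intro j
  have := Nat.mod_lt (dg s j) (by norm_num : 11 > 0)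
  omega

theorem row_eq_pk (b : Nat) (k : Fin 7) : row b k = pk (ent b k) := by
  rw [show ent b k = dg (row b k) from rfl, pk_dg]
  have := row_lt b k
  omega

theorem ent_mulP {a b : Nat} (ha : Reduced a) (hb : Reduced b) (i j : Fin 7) :
    ent (mulP a b) i j = (ent a i 0 * ent b 0 j + ent a i 1 * ent b 1 j + ent a i 2 * ent b 2 j +
      ent a i 3 * ent b 3 j + ent a i 4 * ent b 4 j + ent a i 5 * ent b 5 j +
      ent a i 6 * ent b 6 j) % 11 := by
  rw [ent, mulP_eq, row_pk2 (fun _ => norm_lt _), norm_eq, dg_pk]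
  · congr 1
    rw [rowsum_eq, row_eq_pk b 0, row_eq_pk b 1, row_eq_pk b 2, row_eq_pk b 3, row_eq_pk b 4,
      row_eq_pk b 5, row_eq_pk b 6]
    have hmul : ∀ x y : Nat, x < 11 → y < 11 → x * y ≤ 100 := fun x y hx hy => by
      nlinarith
    have key : ∀ c : Fin 7 → Nat,
        (c = fun j => ent a i 0 * ent b 0 j + ent a i 1 * ent b 1 j + ent a i 2 * ent b 2 j +
          ent a i 3 * ent b 3 j + ent a i 4 * ent b 4 j + ent a i 5 * ent b 5 j +
          ent a i 6 * ent b 6 j) →
        dg (dg (row a i) 0 * pk (ent b 0) + (dg (row a i) 1 * pk (ent b 1) +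
          (dg (row a i) 2 * pk (ent b 2) + (dg (row a i) 3 * pk (ent b 3) +
          (dg (row a i) 4 * pk (ent b 4) + (dg (row a i) 5 * pk (ent b 5) +
          dg (row a i) 6 * pk (ent b 6)))))) ) j = c j := by
      intro c hc
      have h1 : dg (row a i) 0 * pk (ent b 0) + (dg (row a i) 1 * pk (ent b 1) +
          (dg (row a i) 2 * pk (ent b 2) + (dg (row a i) 3 * pk (ent b 3) +
          (dg (row a i) 4 * pk (ent b 4) + (dg (row a i) 5 * pk (ent b 5) +
          dg (row a i) 6 * pk (ent b 6)))))) = pk c := by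
        rw [hc]
        simp only [pk]
        show ent a i 0 * _ + (ent a i 1 * _ + (ent a i 2 * _ + (ent a i 3 * _ + (ent a i 4 * _ +
          (ent a i 5 * _ + ent a i 6 * _))))) = _
        ring
      rw [h1, dg_pk]
      intro j'
      rw [hc]
      have := hmul _ _ (ha.2 i 0) (hb.2 0 j')
      have := hmul _ _ (ha.2 i 1) (hb.2 1 j')
      have := hmul _ _ (ha.2 i 2) (hb.2 2 j')
      have := hmul _ _ (ha.2 i 3) (hb.2 3 j')
      have := hmul _ _ (ha.2 i 4) (hb.2 4 j')
      have := hmul _ _ (ha.2 i 5) (hb.2 5 j')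
      have := hmul _ _ (ha.2 i 6) (hb.2 6 j')
      show ent a i 0 * ent b 0 j' + ent a i 1 * ent b 1 j' + ent a i 2 * ent b 2 j' +
          ent a i 3 * ent b 3 j' + ent a i 4 * ent b 4 j' + ent a i 5 * ent b 5 j' +
          ent a i 6 * ent b 6 j' < 4096
      omega
    exact key _ rfl
  · intro j'
    have := Nat.mod_lt (dg (rowsum (row a i) (row b 0) (row b 1) (row b 2) (row b 3) (row b 4)
      (row b 5) (row b 6)) j') (by norm_num : 11 > 0)
    omega

theorem reduced_mulP {a b : Nat} (ha : Reduced a) (hb : Reduced b) : Reduced (mulP a b) := by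
  refine ⟨?_, fun i j => ?_⟩
  · rw [mulP_eq]
    exact pk2_lt fun _ => norm_lt _
  · rw [ent_mulP ha hb]
    exact Nat.mod_lt _ (by norm_num)

theorem dec_mulP {a b : Nat} (ha : Reduced a) (hb : Reduced b) :
    dec (mulP a b) = dec a * dec b := by
  ext i j
  rw [Matrix.mul_apply, Fin.sum_univ_seven]
  simp only [dec]
  rw [ent_mulP ha hb, ZMod.natCast_mod]
  push_cast
  ring

theorem ent_eq_of_dec_eq {a b : Nat} (ha : Reduced a) (hb : Reduced b) (h : dec a = dec b)
    (i j : Fin 7) : ent a i j = ent b i j := by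
  have h1 : ((ent a i j : Nat) : ZMod 11) = ((ent b i j : Nat) : ZMod 11) := congrFun (congrFun h i) j
  have h2 := congrArg ZMod.val h1
  rwa [ZMod.val_natCast_of_lt (ha.2 i j), ZMod.val_natCast_of_lt (hb.2 i j)] at h2

theorem dec_injOn {a b : Nat} (ha : Reduced a) (hb : Reduced b) (h : dec a = dec b) : a = b := by
  have hr : row a = row b := by
    funext i
    rw [row_eq_pk, row_eq_pk]
    congr 1
    funext j
    exact ent_eq_of_dec_eq ha hb h i j
  rw [← pk2_row ha.1, ← pk2_row hb.1, hr]

theorem dec_oneP : dec oneP = 1 := by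
  ext i j
  fin_cases i <;> fin_cases j <;> decide

/-- Checker for reducedness. -/
def reducedB (a : Nat) : Bool :=
  Nat.blt a 1013065324433836171511818326096474890383898005918563696288002277756507034036354527929615978746851512277392062160962106733983191180520452956027069051297354415786421338721071661056 && Nat.blt (dg0 (row0 a)) 11 &&
    Nat.blt (dg1 (row0 a)) 11 &&
    Nat.blt (dg2 (row0 a)) 11 &&
    Nat.blt (dg3 (row0 a)) 11 &&
    Nat.blt (dg4 (row0 a)) 11 &&
    Nat.blt (dg5 (row0 a)) 11 &&
    Nat.blt (dg6 (row0 a)) 11 &&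
    Nat.blt (dg0 (row1 a)) 11 &&
    Nat.blt (dg1 (row1 a)) 11 &&
    Nat.blt (dg2 (row1 a)) 11 &&
    Nat.blt (dg3 (row1 a)) 11 &&
    Nat.blt (dg4 (row1 a)) 11 &&
    Nat.blt (dg5 (row1 a)) 11 &&
    Nat.blt (dg6 (row1 a)) 11 &&
    Nat.blt (dg0 (row2 a)) 11 &&
    Nat.blt (dg1 (row2 a)) 11 &&
    Nat.blt (dg2 (row2 a)) 11 &&
    Nat.blt (dg3 (row2 a)) 11 &&
    Nat.blt (dg4 (row2 a)) 11 &&
    Nat.blt (dg5 (row2 a)) 11 &&
    Nat.blt (dg6 (row2 a)) 11 &&
    Nat.blt (dg0 (row3 a)) 11 &&
    Nat.blt (dg1 (row3 a)) 11 &&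
    Nat.blt (dg2 (row3 a)) 11 &&
    Nat.blt (dg3 (row3 a)) 11 &&
    Nat.blt (dg4 (row3 a)) 11 &&
    Nat.blt (dg5 (row3 a)) 11 &&
    Nat.blt (dg6 (row3 a)) 11 &&
    Nat.blt (dg0 (row4 a)) 11 &&
    Nat.blt (dg1 (row4 a)) 11 &&
    Nat.blt (dg2 (row4 a)) 11 &&
    Nat.blt (dg3 (row4 a)) 11 &&
    Nat.blt (dg4 (row4 a)) 11 &&
    Nat.blt (dg5 (row4 a)) 11 &&
    Nat.blt (dg6 (row4 a)) 11 &&
    Nat.blt (dg0 (row5 a)) 11 &&
    Nat.blt (dg1 (row5 a)) 11 &&
    Nat.blt (dg2 (row5 a)) 11 &&
    Nat.blt (dg3 (row5 a)) 11 &&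
    Nat.blt (dg4 (row5 a)) 11 &&
    Nat.blt (dg5 (row5 a)) 11 &&
    Nat.blt (dg6 (row5 a)) 11 &&
    Nat.blt (dg0 (row6 a)) 11 &&
    Nat.blt (dg1 (row6 a)) 11 &&
    Nat.blt (dg2 (row6 a)) 11 &&
    Nat.blt (dg3 (row6 a)) 11 &&
    Nat.blt (dg4 (row6 a)) 11 &&
    Nat.blt (dg5 (row6 a)) 11 &&
    Nat.blt (dg6 (row6 a)) 11

theorem reduced_of_reducedB {a : Nat} (h : reducedB a = true) : Reduced a := by
  simp only [reducedB, Bool.and_eq_true, Nat.blt_eq] at h
  obtain ⟨⟨⟨⟨⟨⟨⟨⟨⟨⟨⟨⟨⟨⟨⟨⟨⟨⟨⟨⟨⟨⟨⟨⟨⟨⟨⟨⟨⟨⟨⟨⟨⟨⟨⟨⟨⟨⟨⟨⟨⟨⟨⟨⟨⟨⟨⟨⟨⟨h, h00⟩, h01⟩, h02⟩, h03⟩, h04⟩, h05⟩, h06⟩,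
    h10⟩, h11⟩, h12⟩, h13⟩, h14⟩, h15⟩, h16⟩,
    h20⟩, h21⟩, h22⟩, h23⟩, h24⟩, h25⟩, h26⟩,
    h30⟩, h31⟩, h32⟩, h33⟩, h34⟩, h35⟩, h36⟩,
    h40⟩, h41⟩, h42⟩, h43⟩, h44⟩, h45⟩, h46⟩,
    h50⟩, h51⟩, h52⟩, h53⟩, h54⟩, h55⟩, h56⟩,
    h60⟩, h61⟩, h62⟩, h63⟩, h64⟩, h65⟩, h66⟩ := h
  refine ⟨h, fun i j => ?_⟩
  fin_cases i <;> fin_cases j <;> assumption

end Cfsg.Agent.Lib.Sporadic.J1.PackedMat
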