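import Mathlib
import Cfsg.Prelude.Def_Spor_J1
import Cfsg.Agent.Lib.Sporadic.J1.PackedMat
import Cfsg.Agent.Lib.Sporadic.J1.Data

/-!
# The element orders of `J₁`: a certificate

`J₁ = L D L` for the copy `L` of `L₂(11)` and the list `D` of double coset representatives, so that
every element of `J₁` is conjugate to an element of `D L`: 3300 elements.
-/

set_option autoImplicit false

namespace Cfsg.Agent.Lib.Sporadic.J1.Cert

open PackedMat Data Cfsg.Spor

/-- The matrices. -/
abbrev Mat := Matrix (Fin 7) (Fin 7) (ZMod 11)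

/-- The general linear group. -/
abbrev GL7 := GL (Fin 7) (ZMod 11)

/-- Indexing with default `oneP`. -/
def nthN : List Nat → Nat → Nat
  | [], _ => oneP
  | a :: _, 0 => a
  | _ :: l, k + 1 => nthN l k

theorem nthN_mem_or (l : List Nat) (i : Nat) : nthN l i ∈ l ∨ nthN l i = oneP := by
  induction l generalizing i with
  | nil => exact Or.inr rfl
  | cons a l ih =>
    cases i with
    | zero => exact Or.inl (List.mem_cons_self)
    | succ k =>
      rcases ih k with h | h
      · exact Or.inl (List.mem_cons_of_mem _ h)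
      · exact Or.inr h

/-- Indexing pairs with a default. -/
def nthP (d : Nat × Nat) : List (Nat × Nat) → Nat → Nat × Nat
  | [], _ => d
  | a :: _, 0 => a
  | _ :: l, k + 1 => nthP d l k

theorem nthP_mem_or (d : Nat × Nat) (l : List (Nat × Nat)) (i : Nat) :
    nthP d l i ∈ l ∨ nthP d l i = d := by
  induction l generalizing i with
  | nil => exact Or.inr rfl
  | cons a l ih =>
    cases i with
    | zero => exact Or.inl (List.mem_cons_self)
    | succ k =>
      rcases ih k with h | h
      · exact Or.inl (List.mem_cons_of_mem _ h)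
      · exact Or.inr h

/-- Membership. -/
def memB (x : Nat) : List Nat → Bool
  | [] => false
  | a :: l => Nat.beq x a || memB x l

theorem mem_of_memB {x : Nat} {l : List Nat} (h : memB x l = true) : x ∈ l := by
  induction l with
  | nil => simp [memB] at h
  | cons a l ih =>
    simp only [memB, Bool.or_eq_true] at h
    rcases h with h | h
    · rw [Nat.beq_eq] at h
      exact h ▸ List.mem_cons_self
    · exact List.mem_cons_of_mem _ (ih h)

/-- The spanning tree check: each element is a former one times a generator. -/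
def treeCheck (gens : List Nat) : List Nat → List (Nat × Nat) → Bool
  | [x], [] => Nat.beq x oneP
  | x :: y :: rest, t :: ts =>
      Nat.beq x (mulP (nthN (y :: rest) t.1) (nthN gens t.2)) && treeCheck gens (y :: rest) ts
  | _, _ => false

theorem treeCheck_sound {gens : List Nat} {P : Nat → Prop} (h1 : P oneP)
    (h2 : ∀ x y, P x → (y ∈ gens ∨ y = oneP) → P (mulP x y)) :
    ∀ (l : List Nat) (ts : List (Nat × Nat)), treeCheck gens l ts = true → ∀ x ∈ l, P x := by
  intro l
  induction l with
  | nil => intro ts h; cases ts <;> simp [treeCheck] at h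
  | cons x l ih =>
    intro ts h
    cases l with
    | nil =>
      cases ts with
      | nil =>
        simp only [treeCheck, Nat.beq_eq] at h
        intro z hz
        rw [List.mem_singleton] at hz
        rw [hz, h]
        exact h1
      | cons t ts => simp [treeCheck] at h
    | cons y rest =>
      cases ts with
      | nil => simp [treeCheck] at h
      | cons t ts =>
        simp only [treeCheck, Bool.and_eq_true, Nat.beq_eq] at h
        have hrest := ih ts h.2
        intro z hz
        rcases List.mem_cons.mp hz with rfl | hz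
        · rw [h.1]
          apply h2 _ _ _ (nthN_mem_or gens t.2)
          rcases nthN_mem_or (y :: rest) t.1 with h3 | h3
          · exact hrest _ h3
          · rw [h3]; exact h1
        · exact hrest _ hz

/-- The closure check. -/
def closCheck (gens L : List Nat) : Bool :=
  L.all fun x => gens.all fun g => memB (mulP x g) L

/-- A check on one matrix: its order divides one of the numbers 6, 7, 10, 11, 15, 19. -/
def orderCheck (a : Nat) : Bool :=
  let a2 := mulP a a
  let a3 := mulP a2 a
  let a6 := mulP a3 a3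
  Nat.beq a6 oneP ||
    let a7 := mulP a6 a
    Nat.beq a7 oneP ||
      let a5 := mulP a3 a2
      let a10 := mulP a5 a5
      Nat.beq a10 oneP ||
        let a11 := mulP a10 a
        Nat.beq a11 oneP ||
          let a15 := mulP a10 a5
          Nat.beq a15 oneP ||
            Nat.beq (mulP a15 (mulP a2 a2)) oneP

theorem orderCheck_sound {a : Nat} (ha : Reduced a) (h : orderCheck a = true) :
    ∃ M ∈ [6, 7, 10, 11, 15, 19], (dec a) ^ M = 1 := by
  have h2 := reduced_mulP ha ha
  have d2 : dec (mulP a a) = dec a ^ 2 := by rw [dec_mulP ha ha, pow_two]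
  have h3 := reduced_mulP h2 ha
  have d3 : dec (mulP (mulP a a) a) = dec a ^ 3 := by rw [dec_mulP h2 ha, d2]; rfl
  have h6 := reduced_mulP h3 h3
  have d6 : dec (mulP (mulP (mulP a a) a) (mulP (mulP a a) a)) = dec a ^ 6 := by
    rw [dec_mulP h3 h3, d3, ← pow_add]
  have h7 := reduced_mulP h6 ha
  have d7 : dec (mulP (mulP (mulP (mulP a a) a) (mulP (mulP a a) a)) a) = dec a ^ 7 := by
    rw [dec_mulP h6 ha, d6]; rfl
  have h5 := reduced_mulP h3 h2
  have d5 : dec (mulP (mulP (mulP a a) a) (mulP a a)) = dec a ^ 5 := by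
    rw [dec_mulP h3 h2, d3, d2, ← pow_add]
  have h10 := reduced_mulP h5 h5
  have d10 : dec (mulP (mulP (mulP (mulP a a) a) (mulP a a)) (mulP (mulP (mulP a a) a) (mulP a a)))
      = dec a ^ 10 := by
    rw [dec_mulP h5 h5, d5, ← pow_add]
  have h11 := reduced_mulP h10 ha
  have d11 : dec (mulP (mulP (mulP (mulP (mulP a a) a) (mulP a a))
      (mulP (mulP (mulP a a) a) (mulP a a))) a) = dec a ^ 11 := by
    rw [dec_mulP h10 ha, d10]; rfl
  have h15 := reduced_mulP h10 h5
  have d15 : dec (mulP (mulP (mulP (mulP (mulP a a) a) (mulP a a))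
      (mulP (mulP (mulP a a) a) (mulP a a))) (mulP (mulP (mulP a a) a) (mulP a a))) = dec a ^ 15 := by
    rw [dec_mulP h10 h5, d10, d5, ← pow_add]
  have h4 := reduced_mulP h2 h2
  have d4 : dec (mulP (mulP a a) (mulP a a)) = dec a ^ 4 := by
    rw [dec_mulP h2 h2, d2, ← pow_add]
  have d19 : dec (mulP (mulP (mulP (mulP (mulP (mulP a a) a) (mulP a a))
      (mulP (mulP (mulP a a) a) (mulP a a))) (mulP (mulP (mulP a a) a) (mulP a a)))
      (mulP (mulP a a) (mulP a a))) = dec a ^ 19 := by
    rw [dec_mulP h15 h4, d15, d4, ← pow_add]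
  simp only [orderCheck, Bool.or_eq_true, Nat.beq_eq] at h
  rcases h with h | h | h | h | h | h
  · exact ⟨6, by simp, by rw [← d6, h, dec_oneP]⟩
  · exact ⟨7, by simp, by rw [← d7, h, dec_oneP]⟩
  · exact ⟨10, by simp, by rw [← d10, h, dec_oneP]⟩
  · exact ⟨11, by simp, by rw [← d11, h, dec_oneP]⟩
  · exact ⟨15, by simp, by rw [← d15, h, dec_oneP]⟩
  · exact ⟨19, by simp, by rw [← d19, h, dec_oneP]⟩

/-- A coset representative. -/
def tt (p : Nat × Nat) : Nat := mulP (nthN Ls p.1) (nthN Ds p.2)

/-- One generator's coset action table. -/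
def schCheck (s : Nat) : List (Nat × Nat) → List (Nat × Nat) → Bool
  | [], [] => true
  | p :: ps, q :: qs =>
      Nat.beq (mulP s (tt p)) (mulP (tt (nthP (659, 0) transData q.1)) (nthN Ls q.2)) &&
        schCheck s ps qs
  | _, _ => false

theorem schCheck_sound {s : Nat} : ∀ (ps qs : List (Nat × Nat)), schCheck s ps qs = true →
    ∀ p ∈ ps, ∃ q : Nat × Nat,
      mulP s (tt p) = mulP (tt (nthP (659, 0) transData q.1)) (nthN Ls q.2) := by
  intro ps
  induction ps with
  | nil => intro qs _ p hp; simp at hp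
  | cons a ps ih =>
    intro qs h p hp
    cases qs with
    | nil => simp [schCheck] at h
    | cons q qs =>
      simp only [schCheck, Bool.and_eq_true, Nat.beq_eq] at h
      rcases List.mem_cons.mp hp with rfl | hp
      · exact ⟨q, h.1⟩
      · exact ih qs h.2 p hp

set_option maxRecDepth 100000 in
theorem reduced_Ls : ∀ x ∈ Ls, Reduced x := by
  have h : Ls.all reducedB = true := by decide +kernel
  intro x hx
  exact reduced_of_reducedB (List.all_eq_true.mp h x hx)

theorem reduced_Ds : ∀ x ∈ Ds, Reduced x := by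
  have h : Ds.all reducedB = true := by decide +kernel
  intro x hx
  exact reduced_of_reducedB (List.all_eq_true.mp h x hx)

theorem reduced_oneP : Reduced oneP := reduced_of_reducedB (by decide +kernel)
theorem reduced_xP : Reduced xP := reduced_of_reducedB (by decide +kernel)
theorem reduced_yP : Reduced yP := reduced_of_reducedB (by decide +kernel)
theorem reduced_xiP : Reduced xiP := reduced_of_reducedB (by decide +kernel)
theorem reduced_yiP : Reduced yiP := reduced_of_reducedB (by decide +kernel)
theorem reduced_aP : Reduced aP := reduced_of_reducedB (by decide +kernel)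
theorem reduced_bP : Reduced bP := reduced_of_reducedB (by decide +kernel)
theorem reduced_aiP : Reduced aiP := reduced_of_reducedB (by decide +kernel)
theorem reduced_biP : Reduced biP := reduced_of_reducedB (by decide +kernel)

/-- The first generator of `L₂(11)` as an element of the general linear group. -/
def aG : GL7 :=
  ⟨dec aP, dec aiP, by rw [← dec_mulP reduced_aP reduced_aiP,
      show mulP aP aiP = oneP by decide +kernel, dec_oneP],
    by rw [← dec_mulP reduced_aiP reduced_aP, show mulP aiP aP = oneP by decide +kernel, dec_oneP]⟩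

/-- The second generator of `L₂(11)` as an element of the general linear group. -/
def bG : GL7 :=
  ⟨dec bP, dec biP, by rw [← dec_mulP reduced_bP reduced_biP,
      show mulP bP biP = oneP by decide +kernel, dec_oneP],
    by rw [← dec_mulP reduced_biP reduced_bP, show mulP biP bP = oneP by decide +kernel, dec_oneP]⟩

/-- The copy of `L₂(11)`. -/
def H₀ : Subgroup GL7 := Subgroup.closure {aG, bG}

set_option maxRecDepth 100000 in
theorem tree_ok : treeCheck [aP, bP] Ls treeData = true := by decide +kernel

theorem one_mem_Ls : oneP ∈ Ls := by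
  have h : memB oneP Ls = true := by decide +kernel
  exact mem_of_memB h

theorem one_mem_Ds : oneP ∈ Ds := by
  have h : memB oneP Ds = true := by decide +kernel
  exact mem_of_memB h

/-- Every element of the list is in `H₀`. -/
theorem Ls_sub : ∀ x ∈ Ls, Reduced x ∧ ∃ h ∈ H₀, (h : Mat) = dec x := by
  apply treeCheck_sound (gens := [aP, bP]) (P := fun x => Reduced x ∧ ∃ h ∈ H₀, (h : Mat) = dec x)
    ?_ ?_ _ _ tree_ok
  · exact ⟨reduced_oneP, 1, one_mem _, by rw [dec_oneP]; rfl⟩
  · rintro x y ⟨hx, h, hh, hd⟩ hy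
    have hy' : y = aP ∨ y = bP ∨ y = oneP := by
      rcases hy with hy | hy
      · simp only [List.mem_cons, List.not_mem_nil, or_false] at hy
        rcases hy with h | h
        · exact Or.inl h
        · exact Or.inr (Or.inl h)
      · exact Or.inr (Or.inr hy)
    rcases hy' with rfl | rfl | rfl
    · refine ⟨reduced_mulP hx reduced_aP, h * aG, mul_mem hh (Subgroup.subset_closure (by simp)), ?_⟩
      rw [dec_mulP hx reduced_aP, ← hd]
      rfl
    · refine ⟨reduced_mulP hx reduced_bP, h * bG, mul_mem hh (Subgroup.subset_closure (by simp)), ?_⟩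
      rw [dec_mulP hx reduced_bP, ← hd]
      rfl
    · refine ⟨reduced_mulP hx reduced_oneP, h, hh, ?_⟩
      rw [dec_mulP hx reduced_oneP, dec_oneP, mul_one, hd]

set_option maxRecDepth 100000 in
theorem clos_ok : closCheck [aP, bP, aiP, biP] Ls = true := by decide +kernel

theorem clos_mem {x g : Nat} (hx : x ∈ Ls) (hg : g ∈ [aP, bP, aiP, biP]) : mulP x g ∈ Ls := by
  have h := List.all_eq_true.mp clos_ok x hx
  have h2 := List.all_eq_true.mp h g hg
  exact mem_of_memB h2

/-- Every element of `H₀` is in the list. -/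
theorem H₀_sub {h : GL7} (hh : h ∈ H₀) : ∃ x ∈ Ls, (h : Mat) = dec x := by
  induction hh using Subgroup.closure_induction_right with
  | one => exact ⟨oneP, one_mem_Ls, by rw [dec_oneP]; rfl⟩
  | mul_right x _ y hy ih =>
    obtain ⟨a, ha, hd⟩ := ih
    have hra := (Ls_sub a ha).1
    rcases hy with rfl | hy
    · exact ⟨mulP a aP, clos_mem ha (by simp), by
        rw [dec_mulP hra reduced_aP, ← hd]; rfl⟩
    · rw [Set.mem_singleton_iff] at hy
      subst hy
      exact ⟨mulP a bP, clos_mem ha (by simp), by
        rw [dec_mulP hra reduced_bP, ← hd]; rfl⟩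
  | mul_inv_cancel x _ y hy ih =>
    obtain ⟨a, ha, hd⟩ := ih
    have hra := (Ls_sub a ha).1
    rcases hy with rfl | hy
    · exact ⟨mulP a aiP, clos_mem ha (by simp), by
        rw [dec_mulP hra reduced_aiP, ← hd]; rfl⟩
    · rw [Set.mem_singleton_iff] at hy
      subst hy
      exact ⟨mulP a biP, clos_mem ha (by simp), by
        rw [dec_mulP hra reduced_biP, ← hd]; rfl⟩

theorem mul_mem_Ls {x y : Nat} (hx : x ∈ Ls) (hy : y ∈ Ls) :
    ∃ z ∈ Ls, dec x * dec y = dec z := by
  obtain ⟨-, h, hh, hd⟩ := Ls_sub x hx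
  obtain ⟨-, k, hk, he⟩ := Ls_sub y hy
  obtain ⟨z, hz, hzd⟩ := H₀_sub (mul_mem hh hk)
  refine ⟨z, hz, ?_⟩
  rw [← hzd, ← hd, ← he]
  rfl

set_option maxRecDepth 100000 in
theorem sch_ok : schCheck xP transData schX = true ∧ schCheck yP transData schY = true ∧
    schCheck xiP transData schXi = true ∧ schCheck yiP transData schYi = true := by
  refine ⟨?_, ?_, ?_, ?_⟩ <;> decide +kernel

theorem tt_one : tt (659, 0) = oneP := by decide +kernel

theorem default_mem : ((659, 0) : Nat × Nat) ∈ transData := by
  have h : transData.any (fun p => Nat.beq p.1 659 && Nat.beq p.2 0) = true := by decide +kernel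
  obtain ⟨p, hp, h2⟩ := List.any_eq_true.mp h
  simp only [Bool.and_eq_true, Nat.beq_eq] at h2
  have : p = (659, 0) := Prod.ext h2.1 h2.2
  exact this ▸ hp

theorem reduced_nthLs (i : Nat) : Reduced (nthN Ls i) := by
  rcases nthN_mem_or Ls i with h | h
  · exact reduced_Ls _ h
  · rw [h]; exact reduced_oneP

theorem reduced_nthDs (i : Nat) : Reduced (nthN Ds i) := by
  rcases nthN_mem_or Ds i with h | h
  · exact reduced_Ds _ h
  · rw [h]; exact reduced_oneP

theorem reduced_tt (p : Nat × Nat) : Reduced (tt p) :=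
  reduced_mulP (reduced_nthLs _) (reduced_nthDs _)

theorem nthLs_mem (i : Nat) : nthN Ls i ∈ Ls := by
  rcases nthN_mem_or Ls i with h | h
  · exact h
  · rw [h]; exact one_mem_Ls

theorem nthDs_mem (i : Nat) : nthN Ds i ∈ Ds := by
  rcases nthN_mem_or Ds i with h | h
  · exact h
  · rw [h]; exact one_mem_Ds

theorem nthT_mem (i : Nat) : nthP (659, 0) transData i ∈ transData := by
  rcases nthP_mem_or (659, 0) transData i with h | h
  · exact h
  · rw [h]; exact default_mem

/-- The products in the set `T L`. -/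
def InTL (g : GL7) : Prop := ∃ p ∈ transData, ∃ x ∈ Ls, (g : Mat) = dec (tt p) * dec x

theorem inTL_mul {s : Nat} {σ : GL7} (hs : Reduced s) (hσ : (σ : Mat) = dec s)
    (hsch : ∀ p ∈ transData, ∃ q : Nat × Nat,
      mulP s (tt p) = mulP (tt (nthP (659, 0) transData q.1)) (nthN Ls q.2))
    {g : GL7} (hg : InTL g) : InTL (σ * g) := by
  obtain ⟨p, hp, x, hx, hd⟩ := hg
  obtain ⟨q, hq⟩ := hsch p hp
  obtain ⟨z, hz, hzd⟩ := mul_mem_Ls (nthLs_mem q.2) hx
  refine ⟨_, nthT_mem q.1, z, hz, ?_⟩
  rw [← hzd, Units.val_mul, hσ, hd, ← Matrix.mul_assoc, ← dec_mulP hs (reduced_tt p), hq,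
    dec_mulP (reduced_tt _) (reduced_nthLs _), Matrix.mul_assoc]

theorem jankoX_val : (jankoX : Mat) = dec xP := by
  show jankoMatrixX = _
  decide +kernel

theorem jankoY_val : (jankoY : Mat) = dec yP := by
  show jankoMatrixY = _
  decide +kernel

theorem jankoX_inv_val : ((jankoX⁻¹ : GL7) : Mat) = dec xiP := by
  show jankoMatrixX.transpose = _
  decide +kernel

theorem jankoY_inv_val : ((jankoY⁻¹ : GL7) : Mat) = dec yiP := by
  show jankoMatrixY.transpose = _
  decide +kernel

/-- Every element of `J₁` is in `T L`. -/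
theorem mem_TL {g : GL7} (hg : g ∈ J1) : InTL g := by
  induction hg using Subgroup.closure_induction_left with
  | one => exact ⟨_, default_mem, oneP, one_mem_Ls, by
      rw [tt_one, dec_oneP, mul_one]; rfl⟩
  | mul_left x hx y _ ih =>
    rcases hx with rfl | hx
    · exact inTL_mul reduced_xP jankoX_val (schCheck_sound _ _ sch_ok.1) ih
    · rw [Set.mem_singleton_iff] at hx
      subst hx
      exact inTL_mul reduced_yP jankoY_val (schCheck_sound _ _ sch_ok.2.1) ih
  | inv_mul_cancel x hx y _ ih =>
    rcases hx with rfl | hx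
    · exact inTL_mul reduced_xiP jankoX_inv_val (schCheck_sound _ _ sch_ok.2.2.1) ih
    · rw [Set.mem_singleton_iff] at hx
      subst hx
      exact inTL_mul reduced_yiP jankoY_inv_val (schCheck_sound _ _ sch_ok.2.2.2) ih

set_option maxRecDepth 100000 in
/-- The enumeration of `D L`. -/
theorem orders_ok : Ds.all (fun d => Ls.all fun x => orderCheck (mulP d x)) = true := by
  decide +kernel

/-- Every element of `J₁` has order dividing one of 6, 7, 10, 11, 15, 19. -/
theorem J1_pow {g : GL7} (hg : g ∈ J1) : ∃ M ∈ [6, 7, 10, 11, 15, 19], g ^ M = 1 := by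
  obtain ⟨p, -, x, hx, hd⟩ := mem_TL hg
  -- `g = c d x`
  have hc := nthLs_mem p.1
  have hdm := nthDs_mem p.2
  obtain ⟨-, c, hcm, hcd⟩ := Ls_sub _ hc
  obtain ⟨-, k, hkm, hkd⟩ := Ls_sub _ hx
  obtain ⟨z, hz, hzd⟩ := H₀_sub (mul_mem hkm hcm)
  have hrd := reduced_nthDs p.2
  have hrz := reduced_Ls z hz
  have hcheck : orderCheck (mulP (nthN Ds p.2) z) = true :=
    List.all_eq_true.mp (List.all_eq_true.mp orders_ok _ hdm) z hz
  obtain ⟨M, hM, hpow⟩ := orderCheck_sound (reduced_mulP hrd hrz) hcheck
  refine ⟨M, hM, ?_⟩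
  have hconj : ((c⁻¹ * g * c : GL7) : Mat) = dec (mulP (nthN Ds p.2) z) := by
    have e1 : (g : Mat) = (c : Mat) * (dec (nthN Ds p.2) * (k : Mat)) := by
      rw [hd, tt, dec_mulP (reduced_nthLs _) (reduced_nthDs _), ← hcd, hkd, Matrix.mul_assoc]
    have e2 : ((k * c : GL7) : Mat) = dec z := hzd
    rw [dec_mulP hrd hrz, ← e2, Units.val_mul, Units.val_mul, e1, Units.val_mul]
    have e3 : ((c⁻¹ : GL7) : Mat) * (c : Mat) = 1 := by
      rw [← Units.val_mul, inv_mul_cancel, Units.val_one]
    calc ((c⁻¹ : GL7) : Mat) * ((c : Mat) * (dec (nthN Ds p.2) * (k : Mat))) * (c : Mat)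
        = (((c⁻¹ : GL7) : Mat) * (c : Mat)) * (dec (nthN Ds p.2) * ((k : Mat) * (c : Mat))) := by
          simp only [Matrix.mul_assoc]
      _ = _ := by rw [e3, Matrix.one_mul]
  have h1 : (c⁻¹ * g * c) ^ M = 1 := by
    apply Units.ext
    rw [Units.val_pow_eq_pow_val, hconj, hpow, Units.val_one]
  have h2 : c⁻¹ * g ^ M * c = 1 := by
    have := conj_pow (a := c⁻¹) (b := g) (i := M)
    rw [inv_inv] at this
    rw [this] at h1
    exact h1
  have h3 : g ^ M * c = c := by
    have := congrArg (fun u => c * u) h2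
    simpa [mul_assoc] using this
  exact mul_eq_right.mp h3

end Cfsg.Agent.Lib.Sporadic.J1.Cert
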