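import Mathlib
import Cfsg.Agent.Lib.Sporadic.J1.Cert

/-!
# The element orders of `J₁`
-/

set_option autoImplicit false

namespace Cfsg.Agent.Lib.Sporadic.J1.Orders

open PackedMat Data Cert Cfsg.Spor

/-- Powers of packed matrices. -/
def powN (a : Nat) : Nat → Nat
  | 0 => oneP
  | n + 1 => mulP (powN a n) a

theorem powN_spec {a : Nat} (ha : Reduced a) (n : Nat) :
    Reduced (powN a n) ∧ dec (powN a n) = dec a ^ n := by
  induction n with
  | zero => exact ⟨reduced_oneP, by rw [powN, dec_oneP, pow_zero]⟩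
  | succ k ih =>
    exact ⟨reduced_mulP ih.1 ha, by rw [powN, dec_mulP ih.1 ha, ih.2, pow_succ]⟩

theorem pow_eq_one_iff {g : GL7} {a : Nat} (ha : Reduced a) (hg : (g : Mat) = dec a) (n : Nat) :
    g ^ n = 1 ↔ powN a n = oneP := by
  obtain ⟨h1, h2⟩ := powN_spec ha n
  constructor
  · intro h
    apply dec_injOn h1 reduced_oneP
    rw [h2, dec_oneP, ← hg, ← Units.val_pow_eq_pow_val, h, Units.val_one]
  · intro h
    apply Units.ext
    rw [Units.val_pow_eq_pow_val, hg, ← h2, h, dec_oneP, Units.val_one]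

theorem orderOf_of_check {g : GL7} {a : Nat} (ha : Reduced a) (hg : (g : Mat) = dec a) {n : Nat}
    (hn : 0 < n) (h1 : powN a n = oneP) (h2 : ∀ m, m < n → 0 < m → powN a m ≠ oneP) :
    orderOf g = n := by
  rw [orderOf_eq_iff hn]
  refine ⟨(pow_eq_one_iff ha hg n).mpr h1, fun m hm hm0 h => ?_⟩
  exact h2 m hm hm0 ((pow_eq_one_iff ha hg m).mp h)

theorem val_mul_of {g h : GL7} {a b : Nat} (ha : Reduced a) (hb : Reduced b) (hg : (g : Mat) = dec a)
    (hh : (h : Mat) = dec b) : ((g * h : GL7) : Mat) = dec (mulP a b) := by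
  rw [Units.val_mul, hg, hh, dec_mulP ha hb]

/-- The element orders of `J₁`. -/
def spectrum : Finset ℕ := {1, 2, 3, 5, 6, 7, 10, 11, 15, 19}

theorem orderOf_mem_spectrum (g : J1) : orderOf g ∈ spectrum := by
  obtain ⟨M, hM, h⟩ := J1_pow g.2
  have h1 : orderOf (g : GL7) ∣ M := orderOf_dvd_of_pow_eq_one h
  rw [Subgroup.orderOf_coe] at h1
  have hM0 : M ≠ 0 := by
    intro h0
    subst h0
    simp at hM
  have h2 : orderOf g ∈ M.divisors := Nat.mem_divisors.mpr ⟨h1, hM0⟩
  have h3 : ∀ M ∈ [6, 7, 10, 11, 15, 19], M.divisors ⊆ spectrum := by decide +kernel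
  exact h3 M hM h2

/-- An element of `J₁` with a prescribed order is in the range. -/
theorem exists_of {g : GL7} (hg : g ∈ J1) {n : ℕ} (h : orderOf g = n) :
    ∃ x : J1, orderOf x = n :=
  ⟨⟨g, hg⟩, by rw [← h]; exact Subgroup.orderOf_mk g hg⟩

theorem exists_pow_order {G : Type*} [Group G] {x : G} {m n : ℕ} (h : orderOf x = m) (hm : m ≠ 0)
    (hd : n ∣ m) : ∃ y : G, orderOf y = n :=
  ⟨x ^ (m / n), by rw [← h]; exact orderOf_pow_orderOf_div (by rw [h]; exact hm) (by rw [h]; exact hd)⟩

theorem X_mem : jankoX ∈ J1 := Subgroup.subset_closure (by simp)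
theorem Y_mem : jankoY ∈ J1 := Subgroup.subset_closure (by simp)

theorem exists_7 : ∃ x : J1, orderOf x = 7 :=
  exists_of X_mem (orderOf_of_check reduced_xP jankoX_val (by norm_num) (by decide +kernel)
    (by decide +kernel))

theorem exists_10 : ∃ x : J1, orderOf x = 10 :=
  exists_of (mul_mem X_mem Y_mem)
    (orderOf_of_check (reduced_mulP reduced_xP reduced_yP)
      (val_mul_of reduced_xP reduced_yP jankoX_val jankoY_val) (by norm_num) (by decide +kernel)
      (by decide +kernel))

theorem exists_11 : ∃ x : J1, orderOf x = 11 :=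
  exists_of (mul_mem (mul_mem X_mem Y_mem) Y_mem)
    (orderOf_of_check (reduced_mulP (reduced_mulP reduced_xP reduced_yP) reduced_yP)
      (val_mul_of (reduced_mulP reduced_xP reduced_yP) reduced_yP
        (val_mul_of reduced_xP reduced_yP jankoX_val jankoY_val) jankoY_val)
      (by norm_num) (by decide +kernel) (by decide +kernel))

theorem exists_6 : ∃ x : J1, orderOf x = 6 :=
  have r2 := reduced_mulP reduced_xP reduced_yP
  have r3 := reduced_mulP r2 reduced_yP
  have v2 := val_mul_of reduced_xP reduced_yP jankoX_val jankoY_val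
  have v3 := val_mul_of r2 reduced_yP v2 jankoY_val
  exists_of (mul_mem (mul_mem (mul_mem X_mem Y_mem) Y_mem) Y_mem)
    (orderOf_of_check (reduced_mulP r3 reduced_yP) (val_mul_of r3 reduced_yP v3 jankoY_val)
      (by norm_num) (by decide +kernel) (by decide +kernel))

theorem exists_19 : ∃ x : J1, orderOf x = 19 :=
  have r2 := reduced_mulP reduced_xP reduced_xP
  have r3 := reduced_mulP r2 reduced_xP
  have v2 := val_mul_of reduced_xP reduced_xP jankoX_val jankoX_val
  have v3 := val_mul_of r2 reduced_xP v2 jankoX_val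
  exists_of (mul_mem (mul_mem (mul_mem X_mem X_mem) X_mem) Y_mem)
    (orderOf_of_check (reduced_mulP r3 reduced_yP) (val_mul_of r3 reduced_yP v3 jankoY_val)
      (by norm_num) (by decide +kernel) (by decide +kernel))

theorem exists_15 : ∃ x : J1, orderOf x = 15 :=
  have x := reduced_xP
  have y := reduced_yP
  have vx := jankoX_val
  have vy := jankoY_val
  have r2 := reduced_mulP x x
  have v2 := val_mul_of x x vx vx
  have r3 := reduced_mulP r2 y
  have v3 := val_mul_of r2 y v2 vy
  have r4 := reduced_mulP r3 y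
  have v4 := val_mul_of r3 y v3 vy
  have r5 := reduced_mulP r4 x
  have v5 := val_mul_of r4 x v4 vx
  have r6 := reduced_mulP r5 y
  have v6 := val_mul_of r5 y v5 vy
  have r7 := reduced_mulP r6 x
  have v7 := val_mul_of r6 x v6 vx
  have r8 := reduced_mulP r7 y
  have v8 := val_mul_of r7 y v7 vy
  have r9 := reduced_mulP r8 y
  have v9 := val_mul_of r8 y v8 vy
  exists_of (g := jankoX * jankoX * jankoY * jankoY * jankoX * jankoY * jankoX * jankoY * jankoY)
    (by
      have X := X_mem
      have Y := Y_mem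
      exact mul_mem (mul_mem (mul_mem (mul_mem (mul_mem (mul_mem (mul_mem (mul_mem X X) Y) Y) X) Y) X) Y) Y)
    (orderOf_of_check r9 v9 (by norm_num) (by decide +kernel) (by decide +kernel))

/-- The range of `orderOf` on `J₁`. -/
theorem range_orderOf : Set.range (orderOf : J1 → ℕ) = (spectrum : Set ℕ) := by
  ext n
  constructor
  · rintro ⟨g, rfl⟩
    exact orderOf_mem_spectrum g
  · intro hn
    obtain ⟨x6, h6⟩ := exists_6
    obtain ⟨x7, h7⟩ := exists_7
    obtain ⟨x10, h10⟩ := exists_10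
    obtain ⟨x11, h11⟩ := exists_11
    obtain ⟨x15, h15⟩ := exists_15
    obtain ⟨x19, h19⟩ := exists_19
    have hn' : n = 1 ∨ n = 2 ∨ n = 3 ∨ n = 5 ∨ n = 6 ∨ n = 7 ∨ n = 10 ∨ n = 11 ∨ n = 15 ∨ n = 19 := by
      simpa [spectrum] using hn
    rcases hn' with rfl | rfl | rfl | rfl | rfl | rfl | rfl | rfl | rfl | rfl
    · exact exists_pow_order h6 (by norm_num) (by norm_num)
    · exact exists_pow_order h6 (by norm_num) (by norm_num)
    · exact exists_pow_order h6 (by norm_num) (by norm_num)
    · exact exists_pow_order h10 (by norm_num) (by norm_num)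
    · exact ⟨x6, h6⟩
    · exact ⟨x7, h7⟩
    · exact ⟨x10, h10⟩
    · exact ⟨x11, h11⟩
    · exact ⟨x15, h15⟩
    · exact ⟨x19, h19⟩

end Cfsg.Agent.Lib.Sporadic.J1.Orders
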