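import Mathlib
import Cfsg.Agent.Lib.Sporadic.J1.Orders

/-!
# Words in the generators of `J₁`, and the order of `J₁`
-/

set_option autoImplicit false

namespace Cfsg.Agent.Lib.Sporadic.J1.Basic

open PackedMat Data Cert Orders Cfsg.Spor

/-- The evaluation of a word in the generators. -/
def wG : List Bool → GL7
  | [] => 1
  | b :: w => (if b then jankoX else jankoY) * wG w

/-- The evaluation of a word on packed matrices. -/
def wP : List Bool → Nat
  | [] => oneP
  | b :: w => mulP (if b then xP else yP) (wP w)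

theorem wP_reduced (w : List Bool) : Reduced (wP w) := by
  induction w with
  | nil => exact reduced_oneP
  | cons b w ih =>
    cases b
    · exact reduced_mulP reduced_yP ih
    · exact reduced_mulP reduced_xP ih

theorem wG_val (w : List Bool) : ((wG w : GL7) : Mat) = dec (wP w) := by
  induction w with
  | nil => rw [wP, dec_oneP]; rfl
  | cons b w ih =>
    cases b
    · simp only [wG, wP, if_false, Bool.false_eq_true]
      rw [Units.val_mul, ih, dec_mulP reduced_yP (wP_reduced w), jankoY_val]
    · simp only [wG, wP, if_true]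
      rw [Units.val_mul, ih, dec_mulP reduced_xP (wP_reduced w), jankoX_val]

theorem wG_mem (w : List Bool) : wG w ∈ J1 := by
  induction w with
  | nil => exact one_mem _
  | cons b w ih =>
    cases b
    · exact mul_mem Y_mem ih
    · exact mul_mem X_mem ih

theorem wG_append (v w : List Bool) : wG (v ++ w) = wG v * wG w := by
  induction v with
  | nil => simp [wG]
  | cons b v ih =>
    simp only [List.cons_append, wG, ih, mul_assoc]

/-- Equality in `GL₇` from a packed equality. -/
theorem wG_eq_of {v w : List Bool} (h : wP v = wP w) : wG v = wG w :=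
  Units.ext (by rw [wG_val, wG_val, h])

theorem wP_inj {v w : List Bool} (h : wG v = wG w) : wP v = wP w := by
  apply dec_injOn (wP_reduced v) (wP_reduced w)
  rw [← wG_val, ← wG_val, h]

/-- The value of a product. -/
theorem val_mul_wG {g h : GL7} {a b : Nat} (ha : Reduced a) (hb : Reduced b)
    (hg : (g : Mat) = dec a) (hh : (h : Mat) = dec b) : ((g * h : GL7) : Mat) = dec (mulP a b) :=
  val_mul_of ha hb hg hh

/-- A checked equation `g h = k` in `GL₇`. -/
theorem mul_eq_of {g h k : GL7} {a b c : Nat} (ha : Reduced a) (hb : Reduced b)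
    (hg : (g : Mat) = dec a) (hh : (h : Mat) = dec b) (hk : (k : Mat) = dec c)
    (e : mulP a b = c) : g * h = k := by
  apply Units.ext
  rw [val_mul_of ha hb hg hh, hk, e]

/-- A subgroup which is exhibited by a list. -/
theorem card_of_table {H : Subgroup GL7} {L : List Nat} (hr : ∀ x ∈ L, Reduced x)
    (h1 : ∀ x ∈ L, ∃ g ∈ H, (g : Mat) = dec x) (h2 : ∀ g ∈ H, ∃ x ∈ L, (g : Mat) = dec x)
    (hn : L.Nodup) : Nat.card H = L.length := by
  classical
  have e : Nat.card H = Nat.card {x // x ∈ L} := by
    symm
    choose! f hf hfv using h1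
    apply Nat.card_eq_of_bijective (fun x : {x // x ∈ L} => (⟨f x.1, hf x.1 x.2⟩ : H))
    constructor
    · rintro ⟨a, ha⟩ ⟨b, hb⟩ hab
      apply Subtype.ext
      apply dec_injOn (hr a ha) (hr b hb)
      rw [← hfv a ha, ← hfv b hb]
      exact congrArg (fun z : H => ((z : GL7) : Mat)) hab
    · rintro ⟨g, hg⟩
      obtain ⟨x, hx, hv⟩ := h2 g hg
      refine ⟨⟨x, hx⟩, Subtype.ext (Units.ext ?_)⟩
      show ((f x : GL7) : Mat) = (g : Mat)
      rw [hfv x hx, hv]
  rw [e, Nat.card_congr (Equiv.subtypeEquivRight (p := fun x => x ∈ L)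
    (q := fun x => x ∈ L.toFinset) (by simp)), Nat.card_eq_fintype_card, Fintype.card_coe,
    List.toFinset_card_of_nodup hn]

instance : Finite J1 := inferInstance

set_option maxRecDepth 100000 in
theorem trans_len : transData.length = 266 := by decide +kernel

set_option maxRecDepth 100000 in
theorem Ls_len : Ls.length = 660 := by decide +kernel

theorem card_le_aux {A : List (Nat × Nat)} {B : List Nat}
    (h : ∀ g ∈ J1, ∃ p ∈ A, ∃ x ∈ B, ((g : GL7) : Mat) = dec (tt p) * dec x) :
    Nat.card J1 ≤ A.length * B.length := by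
  classical
  let S : Finset Mat := (A.toFinset ×ˢ B.toFinset).image fun q => dec (tt q.1) * dec q.2
  have hS : S.card ≤ A.length * B.length := by
    calc S.card ≤ (A.toFinset ×ˢ B.toFinset).card := Finset.card_image_le
      _ = A.toFinset.card * B.toFinset.card := Finset.card_product _ _
      _ ≤ A.length * B.length :=
        Nat.mul_le_mul (List.toFinset_card_le _) (List.toFinset_card_le _)
  have hf : ∀ g : J1, ((g : GL7) : Mat) ∈ S := by
    rintro ⟨g, hg⟩
    obtain ⟨p, hp, x, hx, hd⟩ := h g hg
    refine Finset.mem_image.mpr ⟨(p, x), ?_, hd.symm⟩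
    simp only [Finset.mem_product, List.mem_toFinset]
    exact ⟨hp, hx⟩
  have hinj : Function.Injective (fun g : J1 => (⟨((g : GL7) : Mat), hf g⟩ : S)) := by
    intro a b hab
    apply Subtype.ext
    apply Units.ext
    exact congrArg Subtype.val hab
  calc Nat.card J1 ≤ Nat.card S := Nat.card_le_card_of_injective _ hinj
    _ = S.card := by rw [Nat.card_eq_fintype_card, Fintype.card_coe]
    _ ≤ _ := hS

/-- The upper bound. -/
theorem card_le : Nat.card J1 ≤ 175560 := by
  have h := card_le_aux (A := transData) (B := Ls) (fun g hg => mem_TL hg)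
  rw [trans_len, Ls_len] at h
  exact h

/-! ### A subgroup of order 8 -/

/-- `X` -/
abbrev wX : List Bool := [true]
/-- first generator of the elementary abelian subgroup -/
def w1 : List Bool := [true, false, true, false, false, false, false]
/-- second generator of the elementary abelian subgroup -/
def w2 : List Bool := [false, true, true, false, false, false, false, true, true]
/-- third generator of the elementary abelian subgroup -/
def w3 : List Bool := [true, false, true, true, false, false, false, false, true]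

/-- first generator of the elementary abelian subgroup -/
def e1 : GL7 := wG w1
/-- second generator of the elementary abelian subgroup -/
def e2 : GL7 := wG w2
/-- third generator of the elementary abelian subgroup -/
def e3 : GL7 := wG w3

theorem X_eq : wG wX = jankoX := mul_one _

theorem e1_mem : e1 ∈ J1 := wG_mem _
theorem e2_mem : e2 ∈ J1 := wG_mem _
theorem e3_mem : e3 ∈ J1 := wG_mem _

theorem e1_sq : e1 * e1 = 1 := by
  rw [e1, ← wG_append]
  exact wG_eq_of (v := _) (w := []) (by decide +kernel)
theorem e2_sq : e2 * e2 = 1 := by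
  rw [e2, ← wG_append]
  exact wG_eq_of (v := _) (w := []) (by decide +kernel)
theorem e3_sq : e3 * e3 = 1 := by
  rw [e3, ← wG_append]
  exact wG_eq_of (v := _) (w := []) (by decide +kernel)

theorem conj_e1 : jankoX * e1 = e2 * jankoX := by
  rw [← X_eq, e1, e2, ← wG_append, ← wG_append]
  exact wG_eq_of (by decide +kernel)
theorem conj_e2 : jankoX * e2 = e3 * jankoX := by
  rw [← X_eq, e2, e3, ← wG_append, ← wG_append]
  exact wG_eq_of (by decide +kernel)
theorem conj_e3 : jankoX * e3 = e1 * e2 * jankoX := by
  rw [← X_eq, e1, e2, e3, ← wG_append, ← wG_append, ← wG_append]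
  exact wG_eq_of (by decide +kernel)

theorem e12 : e1 * e2 = e2 * e1 := by
  rw [e1, e2, ← wG_append, ← wG_append]
  exact wG_eq_of (by decide +kernel)
theorem e13 : e1 * e3 = e3 * e1 := by
  rw [e1, e3, ← wG_append, ← wG_append]
  exact wG_eq_of (by decide +kernel)
theorem e23 : e2 * e3 = e3 * e2 := by
  rw [e2, e3, ← wG_append, ← wG_append]
  exact wG_eq_of (by decide +kernel)

/-- The elementary abelian subgroup of order `8`. -/
def P8 : Subgroup GL7 := Subgroup.closure {e1, e2, e3}

/-- The list of elements. -/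
def p8L : List (List Bool) :=
  [[], w1, w2, w3, w1 ++ w2, w1 ++ w3, w2 ++ w3, w1 ++ w2 ++ w3]

theorem p8L_ne_mem (v : List Bool) (hv : v ∈ p8L) : wG v ∈ P8 := by
  have h1 : e1 ∈ P8 := Subgroup.subset_closure (by simp)
  have h2 : e2 ∈ P8 := Subgroup.subset_closure (by simp)
  have h3 : e3 ∈ P8 := Subgroup.subset_closure (by simp)
  simp only [p8L, List.mem_cons, List.not_mem_nil, or_false] at hv
  rcases hv with rfl | rfl | rfl | rfl | rfl | rfl | rfl | rfl
  · exact one_mem _
  · exact h1
  · exact h2
  · exact h3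
  · rw [wG_append]; exact mul_mem h1 h2
  · rw [wG_append]; exact mul_mem h1 h3
  · rw [wG_append]; exact mul_mem h2 h3
  · rw [wG_append, wG_append]; exact mul_mem (mul_mem h1 h2) h3

/-- The closure check. -/
def p8Check : Bool :=
  (p8L.map wP).all fun x => [wP w1, wP w2, wP w3].all fun g => memB (mulP x g) (p8L.map wP)

theorem p8Check_ok : p8Check = true := by decide +kernel

theorem P8_sub {g : GL7} (hg : g ∈ P8) : ∃ x ∈ p8L.map wP, (g : Mat) = dec x := by
  have hstep : ∀ (a : Nat) (w : List Bool), a ∈ p8L.map wP → w ∈ [w1, w2, w3] →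
      mulP a (wP w) ∈ p8L.map wP := by
    intro a w ha hw
    have h := List.all_eq_true.mp (List.all_eq_true.mp p8Check_ok a ha) (wP w)
      (List.mem_map_of_mem hw)
    exact mem_of_memB h
  have hred : ∀ a ∈ p8L.map wP, Reduced a := by
    intro a ha
    obtain ⟨v, -, rfl⟩ := List.mem_map.mp ha
    exact wP_reduced v
  have hone : oneP ∈ p8L.map wP := List.mem_map_of_mem (a := []) (by simp [p8L])
  have key : ∀ (a : Nat) (z : GL7) (w : List Bool), a ∈ p8L.map wP → (z : Mat) = dec a →
      w ∈ [w1, w2, w3] → ∃ x ∈ p8L.map wP, ((z * wG w : GL7) : Mat) = dec x := by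
    intro a z w ha hz hw
    exact ⟨_, hstep a w ha hw, by
      rw [Units.val_mul, hz, wG_val, dec_mulP (hred a ha) (wP_reduced w)]⟩
  induction hg using Subgroup.closure_induction_right with
  | one => exact ⟨oneP, hone, by rw [dec_oneP]; rfl⟩
  | mul_right x _ y hy ih =>
    obtain ⟨a, ha, hd⟩ := ih
    simp only [Set.mem_insert_iff, Set.mem_singleton_iff] at hy
    rcases hy with rfl | rfl | rfl
    · exact key a x w1 ha hd (by simp)
    · exact key a x w2 ha hd (by simp)
    · exact key a x w3 ha hd (by simp)
  | mul_inv_cancel x _ y hy ih =>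
    obtain ⟨a, ha, hd⟩ := ih
    simp only [Set.mem_insert_iff, Set.mem_singleton_iff] at hy
    rcases hy with rfl | rfl | rfl
    · rw [eq_inv_of_mul_eq_one_left e1_sq]
      exact key a x w1 ha hd (by simp)
    · rw [eq_inv_of_mul_eq_one_left e2_sq]
      exact key a x w2 ha hd (by simp)
    · rw [eq_inv_of_mul_eq_one_left e3_sq]
      exact key a x w3 ha hd (by simp)

theorem P8_nodup : (p8L.map wP).Nodup := by decide +kernel

/-- The order of the subgroup. -/
theorem card_P8 : Nat.card P8 = 8 := by
  have := card_of_table (H := P8) (L := p8L.map wP)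
    (by
      intro a ha
      obtain ⟨v, -, rfl⟩ := List.mem_map.mp ha
      exact wP_reduced v)
    (by
      intro a ha
      obtain ⟨v, hv, rfl⟩ := List.mem_map.mp ha
      exact ⟨wG v, p8L_ne_mem v hv, wG_val v⟩)
    (fun g hg => P8_sub hg) P8_nodup
  rw [this]
  rfl

theorem P8_le : P8 ≤ J1 := by
  refine (Subgroup.closure_le _).mpr ?_
  rintro g (rfl | rfl | rfl)
  · exact e1_mem
  · exact e2_mem
  · exact e3_mem

/-- The order of `J₁`. -/
theorem card_J1 : Nat.card J1 = 175560 := by
  apply le_antisymm card_le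
  have h8 : 8 ∣ Nat.card J1 := by
    rw [← card_P8]
    exact Subgroup.card_dvd_of_le P8_le
  have hd : ∀ p ∈ Orders.spectrum, p ∣ Nat.card J1 := by
    intro p hp
    have : p ∈ Set.range (orderOf : J1 → ℕ) := by
      rw [range_orderOf]
      exact hp
    obtain ⟨x, rfl⟩ := this
    exact orderOf_dvd_natCard x
  have h3 := hd 3 (by decide)
  have h5 := hd 5 (by decide)
  have h7 := hd 7 (by decide)
  have h11 := hd 11 (by decide)
  have h19 := hd 19 (by decide)
  have hpos : 0 < Nat.card J1 := Nat.card_pos
  have : 175560 ∣ Nat.card J1 := by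
    have a1 : 8 * 3 ∣ Nat.card J1 := Nat.Coprime.mul_dvd_of_dvd_of_dvd (by norm_num) h8 h3
    have a2 : 8 * 3 * 5 ∣ Nat.card J1 := Nat.Coprime.mul_dvd_of_dvd_of_dvd (by norm_num) a1 h5
    have a3 : 8 * 3 * 5 * 7 ∣ Nat.card J1 := Nat.Coprime.mul_dvd_of_dvd_of_dvd (by norm_num) a2 h7
    have a4 : 8 * 3 * 5 * 7 * 11 ∣ Nat.card J1 :=
      Nat.Coprime.mul_dvd_of_dvd_of_dvd (by norm_num) a3 h11
    have a5 : 8 * 3 * 5 * 7 * 11 * 19 ∣ Nat.card J1 :=
      Nat.Coprime.mul_dvd_of_dvd_of_dvd (by norm_num) a4 h19
    simpa using a5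
  exact Nat.le_of_dvd hpos this

end Cfsg.Agent.Lib.Sporadic.J1.Basic
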