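import Mathlib
import Cfsg.Agent.Lib.Sporadic.J1.Basic

/-!
# Bounding centralisers in `J₁` by conjugates
-/

set_option autoImplicit false

namespace Cfsg.Agent.Lib.Sporadic.J1.Invol

open PackedMat Data Cert Orders Basic Cfsg.Spor

/-- Indexing with default. -/
def nthD (d : Nat) : List Nat → Nat → Nat
  | [], _ => d
  | a :: _, 0 => a
  | _ :: l, k + 1 => nthD d l k

theorem nthD_mem_or (d : Nat) (l : List Nat) (i : Nat) : nthD d l i ∈ l ∨ nthD d l i = d := by
  induction l generalizing i with
  | nil => exact Or.inr rfl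
  | cons a l ih =>
    cases i with
    | zero => exact Or.inl List.mem_cons_self
    | succ k =>
      rcases ih k with h | h
      · exact Or.inl (List.mem_cons_of_mem _ h)
      · exact Or.inr h

/-- Conjugation by a generator. -/
def conjStep (k s : Nat) : Nat :=
  match k with
  | 0 => mulP (mulP xP s) xiP
  | _ => mulP (mulP yP s) yiP

/-- The check of a spanning tree of conjugates of `t0`. -/
def conjCheck (t0 : Nat) : List Nat → List (Nat × Nat) → Bool
  | [x], [] => Nat.beq x t0
  | x :: y :: rest, t :: ts =>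
      Nat.beq x (conjStep t.2 (nthD t0 (y :: rest) t.1)) && conjCheck t0 (y :: rest) ts
  | _, _ => false

theorem conjCheck_sound {t0 : Nat} {P : Nat → Prop} (h1 : P t0)
    (h2 : ∀ k s, P s → P (conjStep k s)) :
    ∀ (l : List Nat) (ts : List (Nat × Nat)), conjCheck t0 l ts = true → ∀ x ∈ l, P x := by
  intro l
  induction l with
  | nil => intro ts h; cases ts <;> simp [conjCheck] at h
  | cons x l ih =>
    intro ts h
    cases l with
    | nil =>
      cases ts with
      | nil =>
        simp only [conjCheck, Nat.beq_eq] at h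
        intro z hz
        rw [List.mem_singleton] at hz
        rw [hz, h]
        exact h1
      | cons t ts => simp [conjCheck] at h
    | cons y rest =>
      cases ts with
      | nil => simp [conjCheck] at h
      | cons t ts =>
        simp only [conjCheck, Bool.and_eq_true, Nat.beq_eq] at h
        have hrest := ih ts h.2
        intro z hz
        rcases List.mem_cons.mp hz with rfl | hz
        · rw [h.1]
          apply h2
          rcases nthD_mem_or t0 (y :: rest) t.1 with h3 | h3
          · exact hrest _ h3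
          · rw [h3]; exact h1
        · exact hrest _ hz

/-- The property of being the packed form of a conjugate of `t` (by an element of `J₁`). -/
def IsConj (t : J1) (s : Nat) : Prop :=
  Reduced s ∧ ∃ g : J1, (((g * t * g⁻¹ : J1) : GL7) : Mat) = dec s

theorem isConj_self {t : J1} {a : Nat} (ha : Reduced a) (hv : ((t : GL7) : Mat) = dec a) :
    IsConj t a :=
  ⟨ha, 1, by simpa using hv⟩

/-- The element `X` of `J₁`. -/
def XJ : J1 := ⟨jankoX, X_mem⟩
/-- The element `Y` of `J₁`. -/
def YJ : J1 := ⟨jankoY, Y_mem⟩

theorem isConj_step {t : J1} (k s : Nat) (h : IsConj t s) : IsConj t (conjStep k s) := by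
  obtain ⟨hr, g, hg⟩ := h
  have key : ∀ (u : J1) (a ai : Nat), Reduced a → Reduced ai → ((u : GL7) : Mat) = dec a →
      (((u⁻¹ : J1) : GL7) : Mat) = dec ai → IsConj t (mulP (mulP a s) ai) := by
    intro u a ai ha hai hu hui
    refine ⟨reduced_mulP (reduced_mulP ha hr) hai, u * g, ?_⟩
    have e : u * g * t * (u * g)⁻¹ = u * (g * t * g⁻¹) * u⁻¹ := by group
    rw [e, dec_mulP (reduced_mulP ha hr) hai, dec_mulP ha hr, ← hu, ← hg, ← hui]
    rfl
  cases k with
  | zero => exact key XJ xP xiP reduced_xP reduced_xiP jankoX_val jankoX_inv_val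
  | succ n => exact key YJ yP yiP reduced_yP reduced_yiP jankoY_val jankoY_inv_val

/-- Fast duplicate-free check. -/
def nodupB : List Nat → Bool
  | [] => true
  | a :: l => !memB a l && nodupB l

theorem memB_of_mem {x : Nat} {l : List Nat} (h : x ∈ l) : memB x l = true := by
  induction l with
  | nil => simp at h
  | cons a l ih =>
    simp only [memB, Bool.or_eq_true]
    rcases List.mem_cons.mp h with rfl | h
    · left; simp
    · right; exact ih h

theorem nodup_of_nodupB {l : List Nat} (h : nodupB l = true) : l.Nodup := by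
  induction l with
  | nil => exact List.nodup_nil
  | cons a l ih =>
    simp only [nodupB, Bool.and_eq_true, Bool.not_eq_true'] at h
    refine List.nodup_cons.mpr ⟨fun hm => ?_, ih h.2⟩
    rw [memB_of_mem hm] at h
    simp at h

/-- Conjugates bound the centraliser. -/
theorem orbit_bound (t : J1) {I : List Nat} (hI : ∀ s ∈ I, IsConj t s) (hn : I.Nodup) :
    I.length * Nat.card (Subgroup.centralizer ({t} : Set J1)) ≤ 175560 := by
  classical
  choose f hf using fun s : {s // s ∈ I} => (hI s.1 s.2).2
  let F : {s // s ∈ I} × Subgroup.centralizer ({t} : Set J1) → J1 := fun p => f p.1 * p.2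
  have hF : Function.Injective F := by
    rintro ⟨⟨s, hs⟩, ⟨c, hc⟩⟩ ⟨⟨s', hs'⟩, ⟨c', hc'⟩⟩ h
    have h' : f ⟨s, hs⟩ * c = f ⟨s', hs'⟩ * c' := h
    have hct : c * t * c⁻¹ = t := by
      have := Subgroup.mem_centralizer_iff.mp hc t (Set.mem_singleton t)
      rw [← this]; group
    have hct' : c' * t * c'⁻¹ = t := by
      have := Subgroup.mem_centralizer_iff.mp hc' t (Set.mem_singleton t)
      rw [← this]; group
    have e1 : f ⟨s, hs⟩ * t * (f ⟨s, hs⟩)⁻¹ = f ⟨s', hs'⟩ * t * (f ⟨s', hs'⟩)⁻¹ := by
      calc f ⟨s, hs⟩ * t * (f ⟨s, hs⟩)⁻¹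
          = (f ⟨s, hs⟩ * c) * t * (f ⟨s, hs⟩ * c)⁻¹ := by
            conv_lhs => rw [← hct]
            group
        _ = (f ⟨s', hs'⟩ * c') * t * (f ⟨s', hs'⟩ * c')⁻¹ := by rw [h']
        _ = _ := by
            conv_rhs => rw [← hct']
            group
    have e2 : dec s = dec s' := by
      have a1 := hf ⟨s, hs⟩
      have a2 := hf ⟨s', hs'⟩
      rw [e1, a2] at a1
      exact a1.symm
    have e3 : s = s' := dec_injOn (hI s hs).1 (hI s' hs').1 e2
    subst e3
    have e4 : c = c' := mul_left_cancel h'
    subst e4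
    rfl
  have hc := Nat.card_le_card_of_injective F hF
  rw [Nat.card_prod, card_J1] at hc
  have hl : Nat.card {s // s ∈ I} = I.length := by
    rw [Nat.card_congr (Equiv.subtypeEquivRight (p := fun x => x ∈ I)
      (q := fun x => x ∈ I.toFinset) (by simp)), Nat.card_eq_fintype_card, Fintype.card_coe,
      List.toFinset_card_of_nodup hn]
  rwa [hl] at hc

end Cfsg.Agent.Lib.Sporadic.J1.Invol
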